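set_option autoImplicit false
namespace Cfsg.Agent.Lib.Helper6.TCD.M11aL
noncomputable def HL0 (i : Nat) : Nat := Nat.land (Nat.shiftRight 0x411000441000331000301000311000301000241000221000211000101000001 (Nat.mul 24 (Nat.land i 1023))) 16777215
end Cfsg.Agent.Lib.Helper6.TCD.M11aL
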